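import Mathlib
import Cfsg.Agent.Lib.L3N.PB
import Cfsg.Agent.Lib.MathRec.Aut

/-!
The parabolic case: a line and a point in a plane; the Mathieu case.
-/

set_option autoImplicit false
set_option linter.unusedSectionVars false

namespace CfsgLib.L3N

open MulAction

variable {G Ω : Type*} [Group G] [MulAction G Ω] {E W U D Y W' : Subgroup G} {q m : ℕ}
  {e e' g n s t u w x : G} {a b c d : Ω} {Nf : Ω → Subgroup G} {L : Ω → Ω → Subgroup G}

/-- A line `ab` and a point `c` off it, in the plane of `W`. -/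
structure Cf (q : ℕ) (Nf : Ω → Subgroup G) (L : Ω → Ω → Subgroup G) (a b c : Ω) (W : Subgroup G) :
    Prop where
  ne : a ≠ b
  off : ¬ L a b ≤ stabilizer G c
  pl : Pl W q a Nf L
  hb : W ≤ stabilizer G b
  hc : W ≤ stabilizer G c

variable [Finite G] [Finite Ω]

theorem m22 [Fintype Ω] (hf : ∀ g : G, (∀ c : Ω, g • c = c) → g = 1) (h : Fintype.card Ω = 22)
    {B : Set (Finset Ω)} (hB : Cfsg.IsSteinerSystem 3 6 B)
    (h1 : ∀ g : G, ∀ s ∈ B, ∃ t ∈ B, ∀ x, x ∈ t ↔ g⁻¹ • x ∈ s) (h2 : 443520 ≤ Nat.card G) :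
    Cfsg.Spor.IsoM22 G ∨ ∃ H : Subgroup G, H.index = 2 ∧ Cfsg.Spor.IsoM22 H := by
  classical
  obtain ⟨H, h3, ⟨e⟩⟩ := MathRec.aut22 h hB
  let φ : G →* Cfsg.setSystemAut B := (toPermHom G Ω).codRestrict _ fun g =>
    Steiner.mem_aut_of_image fun s hs => by
      obtain ⟨t, ht, h4⟩ := h1 g s hs
      convert ht
      ext x
      simp [h4, ← eq_inv_smul_iff]
  have hφ : Function.Injective φ := (injective_iff_map_eq_one φ).2 fun g hg =>
    hf g fun c => congrArg (fun σ : Cfsg.setSystemAut B => σ.1 c) hg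
  have h4 := (Nat.card_congr e.toEquiv).trans Mathieu.card_M22
  have h5 := H.index_mul_card
  have h6 := φ.range.index_mul_card
  rw [← Nat.card_congr (MonoidHom.ofInjective hφ).toEquiv, ← h5, h3, h4] at h6
  have h7 : φ.range.index ≤ 2 := by nlinarith
  have : φ.range.Normal := by
    obtain h8 | h8 : φ.range.index = 1 ∨ φ.range.index = 2 := by
      have := φ.range.index_ne_zero_of_finite; omega
    exacts [Subgroup.index_eq_one.1 h8 ▸ inferInstance, φ.range.normal_of_index_eq_two h8]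
  have := Mathieu.simple_M22
  have := e.isSimpleGroup
  have h8 : H ≤ φ.range := Subgroup.subgroupOf_eq_top.1 ((Subgroup.Normal.eq_bot_or_eq_top
    inferInstance).resolve_left fun k => by
      have := Nat.le_of_dvd (Nat.pos_of_ne_zero φ.range.index_ne_zero_of_finite)
        (Subgroup.relIndex_dvd_index_of_normal φ.range H)
      rw [Subgroup.relIndex, k, Subgroup.index_bot] at this
      omega)
  have e' := ((H.comap φ).equivMapOfInjective φ hφ).trans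
    ((MulEquiv.subgroupCongr (Subgroup.map_comap_eq_self h8)).trans e)
  have := H.normal_of_index_eq_two h3
  have h9 := Subgroup.relIndex_dvd_index_of_normal H φ.range
  rw [← Subgroup.index_comap, h3, Nat.dvd_prime Nat.prime_two, Subgroup.index_eq_one] at h9
  exact h9.imp (fun k => ⟨(Subgroup.topEquiv.symm.trans (MulEquiv.subgroupCongr k.symm)).trans e'⟩)
    fun k => ⟨_, k, ⟨e'⟩⟩

namespace PC

variable (P : PC q Nf L)
include P

theorem card_fix (h : a ≠ b) :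
    {x : Ω | L a b ≤ stabilizer G x}.ncard = {x | a ≠ x ∧ L a x = L a b}.ncard + 1 := by
  rw [← Set.ncard_insert_of_notMem (a := a) (by simp)]
  congr 1
  refine Set.ext fun x => ⟨fun k => or_iff_not_imp_left.2 fun k' =>
    ⟨Ne.symm k', P.eq_of_fix h (Ne.symm k') k⟩, ?_⟩
  rintro (rfl | ⟨h1, h2⟩)
  exacts [P.vl (P.lv h), show _ ≤ _ from h2 ▸ P.fr h1]

theorem card_all (h : a ≠ b) :
    Nat.card Ω = (q ^ 2 + (q + 1)) * {x | a ≠ x ∧ L a x = L a b}.ncard + 1 := by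
  rw [← (P.tri a).card_cls (P.lv h), ← P.cnt (S := {U | Same (Nf a) (L a b) U})
    (fun c k => P.card_Ln h k) fun U => P.of_same h,
    ← Set.ncard_insert_of_notMem (a := a) (by simp), ← Set.ncard_univ]
  congr 1
  exact (Set.eq_univ_of_forall fun x => or_iff_not_imp_left.2 fun k =>
    ⟨Ne.symm k, P.same h (Ne.symm k)⟩).symm

theorem cf (h : a ≠ b) (h1 : ¬ L a b ≤ stabilizer G c) : ∃ W, Cf q Nf L a b c W :=
  let ⟨W, h2, h3, h4⟩ := P.pl_ex h (c := c) fun k => h1 (k ▸ P.vl (P.lv h))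
  ⟨W, h, h1, h2, h3, h4⟩

theorem ex_off (h : a ≠ b) : ∃ c : Ω, ¬ L a b ≤ stabilizer G c :=
  let ⟨x, h1, h2, _⟩ := P.meet h (P.lv h) (P.fr h)
  not_forall.1 fun k => h1 (P.faith x fun c => k c h2)

variable (C : Cf q Nf L a b c W)
include C

theorem ac : a ≠ c := fun k => C.off (k ▸ P.vl (P.lv C.ne))

theorem cadj : Adj (L a b) W := P.pl_adj C.pl C.ne C.hb

theorem nW (he : e ∈ L a b) : e • W = W := (P.tri a).norm C.pl.1 (P.lv C.ne) (P.cadj C).symm he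

theorem plc : Pl W q c Nf L := P.pl_mv C.pl C.hc

theorem fixc (he : e ∈ L a b) : e • c = c ↔ e ∈ W := by
  refine ⟨fun h => ?_, fun h => C.hc h⟩
  by_cases h0 : e = 1
  · exact h0 ▸ one_mem _
  obtain ⟨U, hU, h1, h2⟩ := (P.tri a).other (P.lv C.ne) h0 he
  have h3 : Pl U q a Nf L := ⟨hU, b, C.ne, h1⟩
  obtain k | k := P.pl_uniq C.pl h3 C.ne (P.ac C) C.hb C.hc (P.nb_le C.ne hU h1) (P.fix_inv h3 h0 h2 h)
  exacts [absurd (k ▸ P.fr (P.ac C)) C.off, k ▸ h2]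

theorem Wec (he : e ∈ L a b) : W ≤ stabilizer G (e • c) := P.nW C he ▸ cj_stab.2 C.hc

theorem card_O : (orbit (L a b) c).ncard = q := by
  have h := card_orbit (H := L a b) c
  rwa [show L a b ⊓ stabilizer G c = L a b ⊓ W from Subgroup.ext fun e => and_congr_right (P.fixc C),
    (P.tri a).card_inf (P.lv C.ne) C.pl.1 (P.cadj C), (P.lv C.ne).card, sq,
    mul_left_inj' (by have := (P.tri a).q2; omega)] at h

variable (he : e ∈ L a b) (h : c ≠ e • c)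
include he h

theorem Dadj : Adj (L c (e • c)) W := P.pl_adj (P.plc C) h (P.Wec C he)

theorem Dfix : e • L c (e • c) = L c (e • c) := by
  rw [← P.lcj h, ← mul_smul, (P.lv C.ne).sq e he, one_smul, ← P.symm h]

theorem miss (h1 : L a b ≤ stabilizer G d) : ¬ L c (e • c) ≤ stabilizer G d := fun h2 => by
  obtain ⟨x, h3, h4⟩ := P.on h h2
  obtain ⟨y, h5, h6⟩ := P.on C.ne h1
  have h0 : e ≠ 1 := fun k => h (by rw [k, one_smul])
  obtain ⟨U, hU, h7, h8⟩ := (P.tri d).other (P.lv h5) h0 (h6 ▸ he)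
  have h9 : Pl U q d Nf L := ⟨hU, y, h5, h7⟩
  exact h (P.pl_line h9 (P.adj_of_fix h9 h0 h8 h3 (h4 ▸ P.Dfix C he h)) h3 (h4 ▸ P.vl (P.lv h)) h8).symm

theorem ccent (hx : x ∈ W) : Commute e x ↔ x ∈ L a b :=
  ⟨fun k => ((P.tri a).cent (P.lv C.ne) C.pl.1 (P.cadj C) he hx k).resolve_left fun k =>
    h (C.hc k).symm, (P.lv C.ne).comm he⟩

theorem Ymem (h1 : x ∈ L c (e • c)) (h2 : x ∈ W) : e * x * e⁻¹ * x ∈ L c (e • c) ⊓ W ⊓ L a b :=
  ⟨⟨mul_mem (mem_of_cj (P.Dfix C he h) h1) h1, mul_mem (mem_of_cj (P.nW C he) h2) h2⟩, by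
    have := mul_mem he (mem_of_cj ((P.tri a).norm (P.lv C.ne) C.pl.1 (P.cadj C) h2) (inv_mem he))
    simpa [mul_assoc, C.pl.1.inv h2] using this⟩

theorem Yne : ∃ y, y ≠ 1 ∧ y ∈ L c (e • c) ⊓ W ⊓ L a b := by
  obtain ⟨x, h0, h1, h2⟩ := (P.Dadj C he h).2
  by_cases k : x ∈ L a b
  · exact ⟨x, h0, ⟨h1, h2⟩, k⟩
  · exact ⟨_, fun k' => k ((P.ccent C he h h2).1 (of_cj (by
      rw [eq_inv_of_mul_eq_one_left k', C.pl.1.inv h2]))), P.Ymem C he h h1 h2⟩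

omit he h in
theorem inj {S : Set Ω} (h1 : S ⊆ orbit (L a b) c \ {c}) (h2 : Set.InjOn (L c) S) :
    {x | a ≠ x ∧ L a x = L a b}.ncard + 1 + S.ncard ≤ q + 1 := by
  have n : ∀ {x}, L a b ≤ stabilizer G x → c ≠ x := fun hx k => C.off (k ▸ hx)
  have k : ∀ {x y}, L a b ≤ stabilizer G x → y ∈ S → L c x ≠ L c y := fun hx hy k => by
    obtain ⟨⟨e, rfl⟩, h3⟩ := h1 hy
    exact P.miss C e.2 (Ne.symm h3) hx (k ▸ P.fr (n hx))
  rw [← P.card_fix C.ne, ← Set.ncard_union_eq (s := {x : Ω | L a b ≤ stabilizer G x})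
    (Set.disjoint_left.2 fun x hx hy => k hx hy rfl),
    ← (P.tri c).card_nb (P.plc C).1]
  refine Set.ncard_le_ncard_of_injOn (L c) ?_ ?_
  · rintro x (hx | hx)
    · exact ⟨P.lv (n hx), (P.pl_adj (P.plc C) (n hx) (P.pl_line C.pl C.hb C.ne hx)).symm⟩
    · obtain ⟨⟨e, rfl⟩, h3⟩ := h1 hx
      exact ⟨P.lv (Ne.symm h3), (P.Dadj C e.2 (Ne.symm h3)).symm⟩
  · rintro x (hx | hx) y (hy | hy) e
    · by_contra k
      exact C.off (P.line C.ne k hx hy ▸ P.line (n hx) k (P.fr (n hx)) (e ▸ P.fr (n hy)) ▸ P.vl (P.lv (n hx)))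
    exacts [absurd e (k hx hy), absurd e.symm (k hy hx), h2 hx hy e]

theorem le_inf_of (h1 : L c (e • c) ⊓ W ≤ L a b) : L c (e • c) ⊓ W = L a b ⊓ W :=
  Subgroup.eq_of_le_of_card_ge (le_inf h1 inf_le_right) (by
    rw [(P.tri a).card_inf (P.lv C.ne) C.pl.1 (P.cadj C),
      (P.tri c).card_inf (P.lv h) (P.plc C).1 (P.Dadj C he h)])

theorem al3 (h1 : ¬ L c (e • c) ⊓ W ≤ L a b) (he' : e' ∈ L a b) (h' : c ≠ e' • c)
    (h2 : L c (e' • c) = L c (e • c)) : e' • c = e • c := by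
  have v := P.lv C.ne
  have k : ∀ {e}, e ∈ L a b → c ≠ e • c → ∀ k ∈ HE (Nf c) (L c (e • c)) q, e * k * e⁻¹ ∈ Nf c :=
    fun {e} he h k hk => by simpa only [← mul_smul, v.sq _ he, one_smul] using P.mem (P.HE_le' h hk) e
  obtain ⟨y, h3, h4⟩ := P.Yne C he h
  have h5 := (P.tri c).gl1 (P.lv h) (P.plc C).1 (P.Dadj C he h) (P.Dfix C he h) (P.nW C he)
    (h2 ▸ P.Dfix C he' h') (P.nW C he') (k he h) (h2 ▸ k he' h') (v.sq e he) h3 h4.1.1 h4.1.2
    (v.comm he h4.2) fun x _ hx => (P.ccent C he h hx).trans (P.ccent C he' h' hx).symm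
  by_contra h6
  refine h1 fun x hx => (P.ccent C (mul_mem (inv_mem he') he) (fun k => h6 ?_) hx.2).1 (of_cj ?_)
  · rwa [mul_smul, eq_inv_smul_iff] at k
  · rw [show e'⁻¹ * e * x * (e'⁻¹ * e)⁻¹ = e'⁻¹ * (e * x * e⁻¹) * e' by group, h5 x hx.1 hx.2]; group

theorem alpha (h1 : L c (e • c) ⊓ W ≠ L a b ⊓ W) :
    q = 4 ∧ {x | a ≠ x ∧ L a x = L a b}.ncard ≤ 1 := by
  have h2 := mt (P.le_inf_of C he h) h1
  obtain ⟨y, h3, h4⟩ := P.Yne C he h
  have i : Set.InjOn (L c) (orbit (L a b) c \ {c}) := by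
    rintro _ ⟨⟨e₁, rfl⟩, a1⟩ _ ⟨⟨e₂, rfl⟩, a2⟩ k
    refine P.al3 C e₂.2 (Ne.symm a2) (fun k' => h2 ?_) e₁.2 (Ne.symm a1) k
    rwa [P.eq_of_meet h (Ne.symm a2) h3 h4.1.1 ((P.le_inf_of C e₂.2 (Ne.symm a2) k').ge ⟨h4.2, h4.1.2⟩).1]
  have n : (orbit (L a b) c \ {c}).ncard = q - 1 := by
    rw [Set.ncard_diff_singleton_of_mem (mem_orbit_self c), P.card_O C]
  have h5 := P.inj C subset_rfl i
  have q2 := (P.tri a).q2
  refine ⟨?_, by omega⟩
  have : ∀ x ∈ orbit (L a b) c \ {c}, ∃ y, y ≠ 1 ∧ y ∈ L c x ⊓ W ⊓ L a b := by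
    rintro _ ⟨⟨e, rfl⟩, k⟩
    exact P.Yne C e.2 (Ne.symm k)
  choose f f1 f2 using this
  have j : ∀ x hx z, z ∈ orbit (L a b) c \ {c} → f x hx ∈ L c z → x = z := fun x hx z hz k =>
    i hx hz (P.eq_of_meet (Ne.symm hx.2) (Ne.symm hz.2) (f1 x hx) (f2 x hx).1.1 k)
  have h6 := Set.surj_on_of_inj_on_of_ncard_le (t := ((L a b ⊓ W : Subgroup G) : Set G) \ {1}) f
    (fun x hx => ⟨⟨(f2 x hx).2, (f2 x hx).1.2⟩, f1 x hx⟩) (fun x z hx hz k => j x hx z hz (k ▸ (f2 z hz).1.1))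
    (by rw [n, Set.ncard_diff_singleton_of_mem (one_mem _), ← Nat.card_coe_set_eq]
        exact Nat.sub_le_sub_right ((P.tri a).card_inf (P.lv C.ne) C.pl.1 (P.cadj C)).le 1)
  have ho : e • c ∈ orbit (L a b) c \ {c} := ⟨⟨⟨e, he⟩, rfl⟩, h.symm⟩
  have u : ∀ z ∈ L c (e • c) ⊓ W ⊓ L a b, z = 1 ∨ z = f _ ho := fun z hz => or_iff_not_imp_left.2 fun k => by
    obtain ⟨x, hx, rfl⟩ := h6 z ⟨⟨hz.2, hz.1.2⟩, k⟩
    obtain rfl := j x hx _ ho hz.1.1
    rfl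
  obtain ⟨x, h7, h8⟩ := SetLike.not_le_iff_exists.1 h2
  have h9 := (P.tri c).card_inf (P.lv h) (P.plc C).1 (P.Dadj C he h)
  have v : ∀ x ∈ L c (e • c) ⊓ W, x ∉ L a b → e * x * e⁻¹ * x = f _ ho := fun x h7 h8 =>
    (u _ (P.Ymem C he h h7.1 h7.2)).resolve_left fun k => h8 ((P.ccent C he h h7.2).1 (of_cj (by
      rw [eq_inv_of_mul_eq_one_left k, C.pl.1.inv h7.2])))
  have l1 : q ≤ 4 := by
    rw [← h9, ← SetLike.coe_sort_coe, Nat.card_coe_set_eq]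
    refine (Set.ncard_le_ncard (t := {1, f _ ho, x * 1, x * f _ ho}) fun z hz => ?_).trans ?_
    · by_cases k : z ∈ L a b
      · exact (u z ⟨hz, k⟩).imp_right .inl
      have h10 := mul_mem (inv_mem h7) hz
      refine .inr (.inr ((u _ ⟨h10, (P.ccent C he h h10.2).1 (of_cj ?_)⟩).imp
        (fun k => ?_) fun k => ?_))
      · rw [show e * (x⁻¹ * z) * e⁻¹ = (e * x * e⁻¹)⁻¹ * (e * z * e⁻¹) by group,
          eq_mul_inv_of_mul_eq (v x h7 h8), eq_mul_inv_of_mul_eq (v z hz k), C.pl.1.inv hz.2,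
          C.pl.1.inv h7.2]
        simp [C.pl.1.inv h7.2]
      all_goals rw [← k]; simp
    · refine (Set.ncard_insert_le _ _).trans (Nat.succ_le_succ ((Set.ncard_insert_le _ _).trans
        (Nat.succ_le_succ ((Set.ncard_insert_le _ _).trans (by simp)))))
  have l2 : 2 < q := by
    rw [← h9, ← SetLike.coe_sort_coe, Nat.card_coe_set_eq, Set.two_lt_ncard_iff]
    exact ⟨1, y, x, one_mem _, h4.1, h7, h3.symm, fun k => h8 (k ▸ one_mem _), fun k => h8 (k ▸ h4.2)⟩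
  obtain ⟨n, hn, rfl⟩ := (P.tri a).pow
  obtain ⟨k, hk⟩ := dvd_pow_self 2 (Nat.ne_of_gt hn)
  omega

omit C he h in
theorem mathieu [Fintype Ω] (h : a ≠ b) (h4 : q = 4) (h1 : {x | a ≠ x ∧ L a x = L a b}.ncard ≤ 1) :
    (∀ a x y : Ω, a ≠ x → a ≠ y → ∃ g ∈ Nf a, g • x = y) ∧ Fintype.card Ω = 22 ∧
      (Cfsg.Spor.IsoM22 G ∨ ∃ H : Subgroup G, H.index = 2 ∧ Cfsg.Spor.IsoM22 H) := by
  classical
  have m : ∀ {c d}, c ≠ d → {x | c ≠ x ∧ L c x = L c d}.ncard = 1 := fun {c d} k => le_antisymm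
    (P.card_Ln h k ▸ h1) ((Set.ncard_pos).2 ⟨d, k, rfl⟩)
  have i : ∀ {a x y}, a ≠ x → a ≠ y → L a x = L a y → x = y := fun h1 h2 k =>
    (Set.ncard_le_one_iff).1 (m h2).le ⟨h1, k⟩ ⟨h2, rfl⟩
  have v : Nat.card Ω = 22 := by rw [P.card_all h, m h, h4]; rfl
  refine ⟨fun a x y h1 h2 => ?_, by simpa using v, m22 P.faith (by simpa using v)
    (B := {s | ∃ a W, Pl W q a Nf L ∧ ∀ x, x ∈ s ↔ W ≤ stabilizer G x}) ⟨?_, fun s hs => ?_⟩ ?_ ?_⟩
  · obtain ⟨n, hn, k⟩ := P.same h1 h2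
    exact ⟨n, hn, i (P.ne hn h1) h2 (by rw [← k, ← P.lcj h1, P.le hn])⟩
  · rintro s ⟨a, W, hW, hs⟩
    obtain ⟨b, h2, h3⟩ := hW.2
    have := P.cnt (fun _ => m) (S := {U | Vx (Nf a) U q ∧ Adj W U}) fun U hU =>
      P.of_same h2 ((P.tri a).same hW.1 (P.lv h2) hU.1 h3.symm hU.2)
    rw [(P.tri a).card_nb hW.1, h4] at this
    rw [← Set.ncard_coe_finset, show (s : Set Ω) = insert a {x | a ≠ x ∧ L a x ∈ {U | Vx (Nf a) U 4 ∧ Adj W U}}
      from Set.ext fun x => ?_, Set.ncard_insert_of_notMem (by simp), this]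
    refine (hs x).trans ⟨fun k => or_iff_not_imp_left.2 fun k' => ⟨Ne.symm k', h4 ▸ P.lv (Ne.symm k'),
      (P.pl_adj hW (Ne.symm k') k).symm⟩, ?_⟩
    rintro (rfl | k)
    exacts [P.vl hW.1, P.nb_le k.1 hW.1 k.2.2.symm]
  · obtain ⟨a, b, c, h1, h2, h3, rfl⟩ := Finset.card_eq_three.1 hs
    obtain ⟨W, hW, h5, h6⟩ := P.pl_ex h1 h2
    refine ⟨Finset.univ.filter (W ≤ stabilizer G ·), ⟨⟨a, W, hW, by simp⟩, by
      simp [Finset.insert_subset_iff, P.vl hW.1, h5, h6]⟩, ?_⟩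
    rintro t ⟨⟨d, U, hU, h7⟩, h8⟩
    simp only [Finset.insert_subset_iff, Finset.singleton_subset_iff, h7] at h8
    obtain k | rfl := P.pl_uniq hW (P.pl_mv hU h8.1) h1 h2 h5 h6 h8.2.1 h8.2.2
    · exact absurd (i h1 h2 k) h3
    · exact Finset.ext fun x => by simp [h7]
  · rintro g s ⟨a, W, hW, hs⟩
    exact ⟨Finset.univ.filter (g • W ≤ stabilizer G ·), ⟨_, _, P.pl_cj hW g, by simp⟩, fun x => by
      rw [hs, ← cj_stab (g := g), smul_inv_smul]; simp⟩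
  · have h5 := (P.tri a).card
    have h6 := card_orbit (H := (⊤ : Subgroup G)) a
    have h7 := Subgroup.card_le_of_le (show Nf a ≤ ⊤ ⊓ stabilizer G a from fun _ k => ⟨trivial, P.le k⟩)
    rw [Set.eq_univ_of_forall (s := orbit _ a) fun x => ?_, Set.ncard_univ, v, Subgroup.card_top] at h6
    · norm_num [h4] at h5; omega
    by_cases k : a = x
    · exact k ▸ mem_orbit_self a
    · obtain ⟨g, k, -⟩ := P.tr2 k (Ne.symm k)
      exact ⟨⟨g, trivial⟩, k⟩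

end PC

end CfsgLib.L3N
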