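import Mathlib
import Cfsg.Agent.Lib.L3N.PA
import Cfsg.Agent.Lib.Perm.MultiTransBurnside

/-!
The parabolic case: the affine case.
-/

set_option autoImplicit false
set_option linter.unusedSectionVars false

namespace CfsgLib.L3N

open MulAction

variable {G Ω : Type*} [Group G] [MulAction G Ω] {E W U D Y W' : Subgroup G} {q m : ℕ}
  {e e' g n s t u w x : G} {a b c d y z : Ω} {Nf : Ω → Subgroup G} {L : Ω → Ω → Subgroup G}

variable (E D) in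
/-- Nontrivial intersection. -/
def Mt : Prop := ∃ x, x ≠ 1 ∧ x ∈ E ∧ x ∈ D

theorem Mt.symm (h : Mt E D) : Mt D E := let ⟨x, h1, h2, h3⟩ := h; ⟨x, h1, h3, h2⟩

theorem Mt.cj (h : Mt E D) (g : G) : Mt (g • E) (g • D) :=
  let ⟨x, h1, h2, h3⟩ := h; ⟨g * x * g⁻¹, by simpa using h1, cj_mem.2 h2, cj_mem.2 h3⟩

variable (q Nf L) in
/-- The affine case. -/
structure PA : Prop extends PC q Nf L where
  beta : ∀ {a b c W e}, Cf q Nf L a b c W → e ∈ L a b → c ≠ e • c → L c (e • c) ⊓ W = L a b ⊓ W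

variable [Finite G] [Finite Ω]

theorem card_conj {H K : Subgroup G} {S : Set G} (hS : ∀ y ∈ S, ∃ h ∈ H, h * x * h⁻¹ = y) (h : K ≤ H)
    (hK : ∀ k ∈ K, Commute k x) : S.ncard * Nat.card K ≤ Nat.card H := by
  let _ : MulAction G (Additive G) := MulAction.compHom G MulAut.conj
  rw [← card_orbit (H := H) (Additive.ofMul x)]
  exact Nat.mul_le_mul (Set.ncard_le_ncard (t := orbit H (Additive.ofMul x)) fun y hy =>
    let ⟨h, h1, h2⟩ := hS y hy; ⟨⟨h, h1⟩, h2⟩)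
    (Subgroup.card_le_of_le (le_inf h fun k hk => (comm_cj (G := G) (hK k hk) :)))

namespace PA

variable (P : PA q Nf L)
include P

theorem eq_mt (h : a ≠ b) (h' : a ≠ c) (k : Mt (L a b) (L a c)) : L a b = L a c :=
  let ⟨_, h0, h1, h2⟩ := k; P.eq_of_meet h h' h0 h1 h2

theorem mt_refl (h : a ≠ b) : Mt (L a b) (L a b) := P.meet h (P.lv h) (P.fr h)

theorem mt (C : Cf q Nf L a b c W) (he : e ∈ L a b) (h : c ≠ e • c) : Mt (L a b) (L c (e • c)) :=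
  let ⟨x, h1, h2, h3⟩ := (P.cadj C).2
  ⟨x, h1, h2, ((P.beta C he h).ge ⟨h2, h3⟩).1⟩

theorem b1 (C : Cf q Nf L a b c W) (he : e ∈ L a b) (h : c ≠ e • c) (he' : e' ∈ L a b) :
    L c (e • c) ≤ stabilizer G (e' • c) := by
  by_cases h' : c = e' • c
  · exact h' ▸ P.vl (P.lv h)
  obtain ⟨x, h1, h2, h3⟩ := (P.cadj C).2
  rw [P.eq_of_meet h h' h1 ((P.beta C he h).ge ⟨h2, h3⟩).1 ((P.beta C he' h').ge ⟨h2, h3⟩).1]
  exact P.fr h'

theorem cases_mt (h : a ≠ b) (h' : c ≠ d) (k : Mt (L a b) (L c d)) : L a b = L c d ∨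
    ¬ L a b ≤ stabilizer G c ∧ ∃ e ∈ L a b, c ≠ e • c ∧ L c (e • c) = L c d := by
  by_cases h1 : L a b ≤ stabilizer G c
  · obtain ⟨x, h2, h3⟩ := P.on h h1
    exact .inl (h3 ▸ P.eq_mt h2 h' (h3 ▸ k))
  obtain ⟨W, C⟩ := P.cf h h1
  obtain ⟨e, he, h2⟩ := SetLike.not_le_iff_exists.1 h1
  obtain ⟨x, h3, h4, h5⟩ := k
  exact .inr ⟨h1, e, he, Ne.symm h2, P.eq_of_meet (Ne.symm h2) h' h3 ((P.beta C he (Ne.symm h2)).ge
    ⟨h4, (P.fixc C h4).1 (P.vl (P.lv h') h5)⟩).1 h5⟩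

theorem nrm (h : a ≠ b) (h' : c ≠ d) (k : Mt (L a b) (L c d)) (he : e ∈ L a b) :
    e • L c d = L c d := by
  obtain h1 | ⟨h1, x, h2, h3, h4⟩ := P.cases_mt h h' k
  · exact cj_self (h1 ▸ he)
  obtain ⟨W, C⟩ := P.cf h h1
  rw [← h4, ← P.lcj h3]
  exact P.line h3 (by simpa using h3) (P.b1 C h2 h3 he) (mul_smul e x c ▸ P.b1 C h2 h3 (mul_mem he h2))

theorem key (h : a ≠ b) (h' : c ≠ d) (k : Mt (L a b) (L c d)) (hx : x ∈ L a b) (h5 : x • c = c) :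
    x ∈ L c d := by
  obtain h1 | ⟨h1, e, h2, h3, h4⟩ := P.cases_mt h h' k
  · exact h1 ▸ hx
  obtain ⟨W, C⟩ := P.cf h h1
  exact h4 ▸ ((P.beta C h2 h3).ge ⟨hx, (P.fixc C hx).1 h5⟩).1

theorem mt_tr (h : a ≠ b) (h' : c ≠ d) (h'' : y ≠ z) (k : Mt (L a b) (L c d)) (k' : Mt (L a b) (L y z)) :
    Mt (L c d) (L y z) := by
  obtain ⟨x, h1, h2, h3⟩ := k
  by_cases h4 : x • y = y
  · exact ⟨x, h1, h3, P.key h h'' k' h2 h4⟩
  obtain ⟨W, C⟩ := P.cf h' fun k => h4 (k h3)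
  exact P.eq_of_fix h'' (Ne.symm h4) (P.nrm h h'' k' h2 ▸ cj_stab.2 (P.vl (P.lv h''))) ▸
    P.mt C h3 (Ne.symm h4)

theorem ex_par (h : a ≠ b) (c : Ω) : ∃ d, c ≠ d ∧ Mt (L a b) (L c d) := by
  by_cases h1 : L a b ≤ stabilizer G c
  · obtain ⟨x, h2, h3⟩ := P.on h h1
    exact ⟨x, h2, h3 ▸ P.mt_refl h2⟩
  obtain ⟨W, C⟩ := P.cf h h1
  obtain ⟨e, he, h2⟩ := SetLike.not_le_iff_exists.1 h1
  exact ⟨_, Ne.symm h2, P.mt C he (Ne.symm h2)⟩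

theorem par_pl (h : a ≠ b) (h' : c ≠ d) (k : Mt (L a b) (L c d)) (hW : Pl W q a Nf L)
    (hb : W ≤ stabilizer G b) (hc : W ≤ stabilizer G c) : W ≤ stabilizer G d := by
  obtain h1 | ⟨h1, e, h2, h3, h4⟩ := P.cases_mt h h' k
  · exact P.pl_line hW hb h (h1 ▸ P.fr h')
  exact P.pl_line (P.pl_mv hW hc) (P.Wec ⟨h, h1, hW, hb, hc⟩ h2) h3 (h4 ▸ P.fr h')

/-- The dilatations. -/
def Dil : Subgroup G where
  carrier := {g | ∀ a b, a ≠ b → Mt (L a b) (L (g • a) (g • b))}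
  one_mem' a b h := by simpa using P.mt_refl h
  mul_mem' {g k} hg hk a b h := by
    simpa only [mul_smul] using P.mt_tr (by simpa using h) h (by simpa using h) (hk a b h).symm
      (hg _ _ (by simpa using h))
  inv_mem' {g} hg a b h := by simpa using (hg (g⁻¹ • a) (g⁻¹ • b) (by simpa using h)).symm

theorem Dil_normal : P.Dil.Normal := ⟨fun g hg k a b h => by
  have h1 : k⁻¹ • a ≠ k⁻¹ • b := by simpa using h
  have := (hg _ _ h1).cj k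
  rw [← P.lcj h1, ← P.lcj (by simpa using h)] at this
  simpa [mul_smul] using this⟩

theorem meet_eq (h : a ≠ b) (h1 : ¬ L a b ≤ stabilizer G c) (h2 : L a c ≤ stabilizer G d)
    (h3 : L b c ≤ stabilizer G d) : c = d := by_contra fun k => by
  have a1 : a ≠ c := fun e => h1 (e ▸ P.vl (P.lv h))
  have a2 : b ≠ c := fun e => h1 (e ▸ P.fr h)
  exact h1 (P.eq_of_fix a1 h (P.line a1 k (P.fr a1) h2 ▸ P.line a2 k (P.fr a2) h3 ▸ P.vl (P.lv a2)) ▸ P.fr a1)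

theorem Dil_fix (hg : g ∈ P.Dil) (h : a ≠ b) (h1 : g • a = a) (h2 : g • b = b) : g = 1 := by
  have k : ∀ {a c}, g • a = a → a ≠ c → L a c ≤ stabilizer G (g • c) := fun {a c} h1 h2 => by
    have h3 : a ≠ g • c := fun e => h2 (smul_left_cancel g (h1.trans e))
    exact P.eq_mt h2 h3 (by simpa only [h1] using hg a c h2) ▸ P.fr h3
  have k' : ∀ {a b c}, g • a = a → g • b = b → a ≠ b → ¬ L a b ≤ stabilizer G c → g • c = c :=
    fun h1 h2 h h3 => (P.meet_eq h h3 (k h1 fun e => h3 (e ▸ P.vl (P.lv h)))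
      (k h2 fun e => h3 (e ▸ P.fr h))).symm
  obtain ⟨c, h3⟩ := P.ex_off h
  refine P.faith g fun x => by_contra fun h4 => ?_
  have h5 : a ≠ c := fun e => h3 (e ▸ P.vl (P.lv h))
  have h6 : a ≠ x := fun e => h4 (e ▸ h1)
  exact h3 (P.eq_of_fix h h6 (not_not.1 (_root_.mt (k' h1 h2 h) h4)) ▸ P.eq_of_fix h5 h6
    (not_not.1 (_root_.mt (k' h1 (k' h1 h2 h h3) h5) h4)) ▸ P.fr h5)

theorem Dil_ne (h : a ≠ b) : P.Dil ≠ ⊥ := by
  obtain ⟨c, h1⟩ := P.ex_off h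
  obtain ⟨W, C⟩ := P.cf h h1
  obtain ⟨e, he, h2⟩ := SetLike.not_le_iff_exists.1 h1
  replace h2 : c ≠ e • c := Ne.symm h2
  have T := P.tri c
  have hW := P.plc C
  have v := P.lv h2
  have A := P.Dadj C he h2
  have β := P.beta C he h2
  have X : ∀ y ∈ W, e * y * e⁻¹ * y ∈ L c (e • c) ⊓ W := fun y hy => β.ge ⟨by
    have := mul_mem he (mem_of_cj ((P.tri a).norm (P.lv h) C.pl.1 (P.cadj C) hy) (inv_mem he))
    simpa [mul_assoc, hW.1.inv hy] using this, mul_mem (mem_of_cj (P.nW C he) hy) hy⟩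
  obtain ⟨w, hw, h3⟩ := T.exn hW.1 v A.1.symm
  obtain ⟨f, hf, h4⟩ := T.surj hW.1 v A.symm hw h3 (X w hw).2 (X w hw).1
  rw [(hW.1.comm hw (X w hw).2).eq, mul_assoc _ w w, hW.1.sq w hw, mul_one] at h4
  have h0 : w ≠ 1 := fun k => h3 (k ▸ one_mem _)
  obtain ⟨U, hU, h5, h6⟩ := T.other hW.1 h0 hw
  obtain ⟨x, h7, rfl⟩ := P.of_same h2 (T.same hW.1 v hU A.symm h5)
  have h8 : (f⁻¹ * e) • c = e • c := by rw [mul_smul]; exact P.fr h2 (inv_mem hf)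
  have h9 : (f⁻¹ * e) • W = W := by rw [mul_smul, P.nW C he, T.norm hW.1 v A.symm (inv_mem hf)]
  have c0 : f⁻¹ * e * w * (f⁻¹ * e)⁻¹ = w := by
    rw [show f⁻¹ * e * w * (f⁻¹ * e)⁻¹ = f⁻¹ * (e * w * e⁻¹) * f by group, ← h4]; group
  have n : L c (e • c) ≠ L c x := fun k => h3 (k ▸ h6)
  have c1 : ∀ y ∈ W, Commute (f⁻¹ * e) y := fun y hy => by
    obtain ⟨y, a1, a2, z, a3, a4, rfl⟩ := T.prod v hW.1 hU A h5.symm n hy
    refine ((v.comm (inv_mem hf) a1).mul_left ((P.lv h).comm he (β.le ⟨a1, a2⟩).1)).mul_right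
      (of_cj (by_contra fun k => n (P.eq_of_meet h2 h7 (fun e => k ?_) (e := _ * z * _ * z) ?_ (mul_mem
        (P.key (by simpa using h7) h7 ⟨w, h0, by rw [P.lcj h7, ← c0]; exact cj_mem.2 h6, h6⟩
          (P.lcj h7 _ ▸ cj_mem.2 a3) (C.hc (mem_of_cj h9 a4))) a3))))
    · rw [eq_inv_of_mul_eq_one_left e, hW.1.inv a4]
    have := mul_mem (mul_mem (mul_mem (inv_mem hf) (X z a4).1)
      (mem_of_cj (T.norm v hW.1 A (inv_mem a4)) hf)) (hW.1.sq z a4 ▸ one_mem _ : z * z ∈ L c (e • c))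
    rw [hW.1.sq z a4, mul_one] at this
    convert this using 1
    group
  obtain ⟨p, h10⟩ : ∃ p : Ω, ¬ W ≤ stabilizer G p := not_forall.1 fun k => h0 (P.faith w fun p => k p hw)
  have o : ∀ {p}, ¬ W ≤ stabilizer G p → c ≠ p ∧ ¬ Same (Nf c) W (L c p) ∧ ¬ Adj W (L c p) := fun {p} k =>
    have k' : c ≠ p := fun e => k (e ▸ C.hc)
    ⟨k', fun s => T.nsame v A ((P.same h2 k').trans s.symm), fun s => k (P.nb_le k' hW.1 s.symm)⟩
  have h11 : (f⁻¹ * e) • c ≠ (f⁻¹ * e) • p := by simpa using (o h10).1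
  obtain ⟨p', h12, h13⟩ := P.ex_par h11 c
  have h14 : ¬ W ≤ stabilizer G p' := fun k => h10 (cj_stab.1 (h9.symm ▸
    P.par_pl h12 h11 h13.symm hW k (h8 ▸ P.Wec C he)))
  obtain ⟨u, hu, h15⟩ := T.opp hW.1 (P.lv h12) (P.lv (o h10).1) (o h14).2.1 (o h10).2.1 (o h14).2.2
    (o h10).2.2
  have c2 : ∀ y ∈ W, Commute (u * (f⁻¹ * e)) y := fun y hy => (hW.1.comm hu hy).mul_left (c1 y hy)
  have k : ∀ y, c ≠ y → Mt (L c y) ((u * (f⁻¹ * e)) • L c y) := fun y hy => by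
    by_cases k : W ≤ stabilizer G y
    · obtain ⟨z, a1, a2, a3⟩ := (P.pl_adj hW hy k).2
      exact ⟨z, a1, a2, comm_cj (c2 z a3) ▸ cj_mem.2 a2⟩
    obtain ⟨u', hu', h16⟩ := T.opp hW.1 (P.lv (o h10).1) (P.lv hy) (o h10).2.1 (o k).2.1 (o h10).2.2
      (o k).2.2
    rw [← h16, ← mul_smul, (c2 u' hu').eq, mul_smul, mul_smul u, ← P.lcj (o h10).1 (f⁻¹ * e)]
    exact (h15 ▸ h13.symm.cj u).cj u'
  suffices u * (f⁻¹ * e) ∈ P.Dil from fun k => h2 (by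
    rw [← P.Wec C he hu, ← h8, ← mul_smul, Subgroup.mem_bot.1 (k.le this), one_smul])
  intro x y hxy
  · obtain ⟨z, a1, a2⟩ := P.ex_par hxy c
    have a3 := a2.cj (u * (f⁻¹ * e))
    have a4 := k z a1
    rw [← P.lcj a1] at a3 a4
    exact P.mt_tr (by simpa using a1) hxy (by simpa using hxy) (P.mt_tr a1 (by simpa using a1) hxy a4 a2.symm)
      (P.lcj hxy _ ▸ a3.symm)

theorem ntr (h : a ≠ b) (h' : a ≠ d) : ∃ n ∈ Nf a, n • b = d := by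
  obtain ⟨n, hn, h1⟩ := P.same h h'
  rw [← P.lcj h, P.le hn] at h1
  replace h := P.ne hn h
  suffices ∃ k ∈ Nf a, k • n • b = d from let ⟨k, h1, h2⟩ := this; ⟨_, mul_mem h1 hn, mul_smul k n b ▸ h2⟩
  generalize n • b = b at h h1
  obtain ⟨c, h2⟩ := P.ex_off h
  obtain ⟨W, C⟩ := P.cf h h2
  obtain ⟨e, he, h3⟩ := SetLike.not_le_iff_exists.1 h2
  replace h3 : c ≠ e • c := Ne.symm h3
  have n : ∀ {x}, L a b ≤ stabilizer G x → c ≠ x := fun hx k => h2 (k ▸ hx)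
  have A : ∀ {x}, L a b ≤ stabilizer G x → Adj (L c x) W := fun hx =>
    P.pl_adj (P.plc C) (n hx) (P.pl_line C.pl C.hb h hx)
  have m : ∀ {x}, L a b ≤ stabilizer G x → L c x ≠ L c (e • c) := fun hx k =>
    P.miss C he h3 hx (k ▸ P.fr (n hx))
  have fa := P.vl (P.lv h)
  have m' : ∀ {x}, a ≠ x → L a b ≤ stabilizer G x → L c x ≠ L c a := fun h4 hx k =>
    h2 (P.eq_of_fix h h4 hx ▸ P.line (n fa) h4 (P.fr (n fa)) (k ▸ P.fr (n hx)) ▸ P.vl (P.lv (n fa)))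
  have fd : L a b ≤ stabilizer G d := h1 ▸ P.fr h'
  obtain ⟨k, hk, h4, h5⟩ := (P.tri c).tor (P.lv (n fa)) (P.plc C).1 (P.lv h3) (P.lv (n (P.fr h)))
    (P.lv (n fd)) (A fa) (P.Dadj C he h3) (A (P.fr h)) (A fd) (m fa).symm (m' h (P.fr h)) (m' h' fd)
    (m (P.fr h)) (m fd)
  have h6 := P.HE_le' (n fa) hk
  have h7 := P.ne h6 h
  have h8 := (P.mt C he h3).cj k
  rw [h4, ← P.lcj h, P.le h6] at h8
  rw [← P.lcj (n (P.fr h)), P.le (HE_le_N hk)] at h5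
  refine ⟨k, h6, by_contra fun h9 => h2 ?_⟩
  have h10 := P.eq_mt h h7 (P.mt_tr h3 h h7 (P.mt C he h3).symm h8.symm)
  rw [← P.line h h9 (h10 ▸ P.fr h7) fd, P.line (n fd) h9 (h5 ▸ P.fr (P.ne (HE_le_N hk) (n (P.fr h))))
    (P.fr (n fd))]
  exact P.vl (P.lv (n fd))

theorem card_pts (h : a ≠ b) : Nat.card Ω = q ^ 3 := by
  obtain ⟨c, h2⟩ := P.ex_off h
  obtain ⟨W, C⟩ := P.cf h h2
  obtain ⟨e, he, h3⟩ := SetLike.not_le_iff_exists.1 h2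
  have h4 := P.inj C (S := {e • c}) (Set.singleton_subset_iff.2 ⟨⟨⟨e, he⟩, rfl⟩, h3⟩) (Set.injOn_singleton _ _)
  have h5 := Set.ncard_le_ncard (s := orbit (L a b) c) (t := {x : Ω | L c (e • c) ≤ stabilizer G x})
    fun _ ⟨k, hk⟩ => hk ▸ P.b1 C he (Ne.symm h3) k.2
  rw [P.card_fix (Ne.symm h3), P.card_Ln h (Ne.symm h3), P.card_O C] at h5
  rw [Set.ncard_singleton] at h4
  rw [P.card_all h, show q = {x | a ≠ x ∧ L a x = L a b}.ncard + 1 by omega]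
  ring

theorem gcd_eq (h : a ≠ b) : Nat.gcd 3 (q - 1) = 1 := by
  have T := P.tri a
  have h1 := card_orbit (H := Nf a) b
  rw [show orbit (Nf a) b = {a}ᶜ from Set.ext fun x => ⟨fun ⟨n, e⟩ k => P.ne n.2 h (k.symm.trans e.symm),
    fun k => let ⟨n, h1, h2⟩ := P.ntr h (Ne.symm k); ⟨⟨n, h1⟩, h2⟩⟩, Set.ncard_compl, Set.ncard_singleton,
    P.card_pts h] at h1
  obtain ⟨W, hW, A, -⟩ := T.join (P.lv h) Same.refl
  obtain ⟨x, h2, h3, h4⟩ := A.2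
  have h5 := card_conj (H := Nf a ⊓ stabilizer G b) (S := (L a b : Set G) \ {1}) (K := L a b ⊔ W)
    (fun y hy => let ⟨k, h5, h6⟩ := T.tr1 (P.lv h) h3 hy.1 h2 hy.2; ⟨k, ⟨HE_le_N h5, P.HE_fr h h5⟩, h6⟩)
    (sup_le (le_inf (P.lv h).le (P.fr h)) (le_inf hW.le (P.nb_le h hW A))) fun k hk => by
      obtain ⟨y, h5, z, h6, rfl⟩ := T.mem_T (P.lv h) hW A hk
      exact ((P.lv h).comm h5 h3).mul_left (hW.comm h6 h4)
  rw [Set.ncard_sdiff_singleton_of_mem (one_mem _), ← Nat.card_coe_set_eq, SetLike.coe_sort_coe,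
    (P.lv h).card, T.card_T (P.lv h) hW A] at h5
  have h6 := T.card
  have := T.q2
  have h7 : 0 < q ^ 3 - 1 := Nat.sub_pos_of_lt (Nat.one_lt_pow (by norm_num) this)
  rw [← h1, mul_left_comm, ← mul_assoc (q ^ 3), mul_comm _ (q ^ 3 - 1), Nat.mul_right_inj h7.ne'] at h6
  have h8 := Nat.card_pos (α := (Nf a ⊓ stabilizer G b :))
  have h9 := Nat.gcd_pos_of_pos_left (q - 1) three_pos
  nlinarith

theorem affine [FaithfulSMul G Ω] (h2 : IsMultiplyPretransitive G Ω 2) (h : a ≠ b) :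
    ∃ E : Subgroup G, E.Normal ∧ Nat.card E = q ^ 3 ∧ (∀ x y : Ω, ∃ r ∈ E, r • x = y) ∧
      ∀ x : Ω, ∀ r ∈ E, r • x = x → r = 1 := by
  have := P.Dil_normal
  have : Nontrivial Ω := ⟨a, b, h⟩
  obtain ⟨K, h1, -, h3, h4⟩ := Perm.exists_regular_normal_of_fix_two h2 P.Dil ⟨fun x y =>
    let ⟨n, h1, h2⟩ := Perm.normal_transitive_of_two_transitive h2 _ (P.Dil_ne h) x y; ⟨⟨n, h1⟩, h2⟩⟩
    fun n hn a b => P.Dil_fix hn
  refine ⟨K, h1, ?_, h4, fun x r hr => h3 r hr x⟩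
  rw [← card_orbit (H := K) a, (Subgroup.eq_bot_iff_forall (K ⊓ stabilizer G a)).2 fun r hr => h3 r hr.1 a hr.2,
    Set.eq_univ_of_forall (s := orbit K a) fun x => let ⟨k, h1, h2⟩ := h4 a x; ⟨⟨k, h1⟩, h2⟩,
    Set.ncard_univ, P.card_pts h, Subgroup.card_bot, mul_one]

end PA

end CfsgLib.L3N
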